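import Cfsg.Agent.FGS.AH.Defs

/-! Basic group lemmas. -/

set_option autoImplicit false
set_option linter.unusedSectionVars false

namespace CL.AH

open Subgroup Cfsg

variable {G : Type*} [Group G] [Finite G] {x y : G}

namespace Bx

theorem mc {k g : G} : k ∈ centralizer ({g} : Set G) ↔ k * g = g * k := mem_centralizer_singleton_iff

omit [Finite G] in
theorem cz_equiv {H : Type*} [Group H] (e : G ≃* H) (x : G) : cz (e x) = cz x := by
  unfold cz
  have h1 : ∀ k : centralizer ({x} : Set G), e k.1 ∈ centralizer ({e x} : Set H) := fun k => by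
    have := mem_centralizer_singleton_iff.1 k.2
    rw [mem_centralizer_singleton_iff, ← map_mul, ← map_mul, this]
  have h2 : ∀ k : centralizer ({e x} : Set H), e.symm k.1 ∈ centralizer ({x} : Set G) := fun k => by
    have := mem_centralizer_singleton_iff.1 k.2
    rw [mem_centralizer_singleton_iff]
    apply e.injective
    simpa using this
  exact (Nat.card_congr ⟨fun k => ⟨e k.1, h1 k⟩, fun k => ⟨e.symm k.1, h2 k⟩, fun k => by simp, fun k => by simp⟩).symm

theorem nat_pow {w g : G} (h : g ∈ zpowers w) : ∃ i : ℕ, g = w ^ i := by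
  obtain ⟨i, hi⟩ := mem_powers_iff_mem_zpowers.2 h
  exact ⟨i, hi.symm⟩

theorem inv_pow (x : G) : ∃ m : ℕ, m.Coprime (orderOf x) ∧ x ^ m = x⁻¹ := by
  obtain ⟨n, hn⟩ : ∃ n, orderOf x = n + 1 := ⟨orderOf x - 1, by have := orderOf_pos x; omega⟩
  refine ⟨n, by rw [hn]; simp, ?_⟩
  rw [eq_inv_iff_mul_eq_one, ← pow_succ, ← hn, pow_orderOf_eq_one]

omit [Finite G] in
theorem two_el {a z g : G} (h : Zz a z) (ga : g * a = a * g) (gz : g * z = z * g) {k : ℕ} (hk : g ^ 2 ^ k = 1) :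
    g = 1 ∨ g = z := by
  obtain ⟨i, j, e⟩ := h.le g ga gz
  have c : Commute a z := h.cm.symm
  have z2 : z ^ 2 = 1 := by rw [pow_two, h.z2]
  have a3 : a ^ 3 = 1 := by rw [← h.a3, pow_orderOf_eq_one]
  have g2 : g ^ 2 = a ^ (i * 2) := by
    rw [e, (c.pow_pow i j).mul_pow, ← pow_mul, ← pow_mul, mul_comm j 2, pow_mul z, z2, one_pow, mul_one]
  have g6 : g ^ 6 = 1 := by
    rw [show 6 = 2 * 3 from rfl, pow_mul, g2, ← pow_mul, mul_comm, pow_mul, a3, one_pow]
  have d1 := orderOf_dvd_of_pow_eq_one g6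
  have d2 := orderOf_dvd_of_pow_eq_one hk
  have d3 : orderOf g ∣ 2 := by
    have : (orderOf g).Coprime 3 := Nat.Coprime.coprime_dvd_left d2 (Nat.Coprime.pow_left _ (by norm_num))
    exact this.dvd_of_dvd_mul_right (by simpa using d1)
  have ai : a ^ i = 1 := by
    have : a ^ (i * 2) = 1 := by rw [← g2]; exact orderOf_dvd_iff_pow_eq_one.1 d3
    have h3 := orderOf_dvd_of_pow_eq_one this
    rw [h.a3] at h3
    apply orderOf_dvd_iff_pow_eq_one.1
    rw [h.a3]; omega
  rw [ai, one_mul] at e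
  rcases Nat.even_or_odd' j with ⟨l, rfl | rfl⟩
  · left; rw [e, pow_mul, z2, one_pow]
  · right; rw [e, pow_succ, pow_mul, z2, one_pow, one_mul]

end Bx

open Bx

theorem cz_pos (x : G) : 0 < cz x := Nat.card_pos

theorem cz_dvd_card (x : G) : cz x ∣ Nat.card G := card_subgroup_dvd_card _

theorem cz_one : cz (1 : G) = Nat.card G := by
  have : centralizer ({(1 : G)} : Set G) = ⊤ := eq_top_iff.2 fun g _ => mc.2 (by simp)
  rw [cz, this, card_top]

theorem orderOf_dvd_cz (h : y * x = x * y) : orderOf y ∣ cz x := Subgroup.orderOf_dvd_natCard _ (mc.2 h)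

theorem card_dvd_cz {K : Subgroup G} (h : ∀ k ∈ K, k * x = x * k) : Nat.card K ∣ cz x := card_dvd_of_le fun k hk => mc.2 (h k hk)

theorem cz_dvd_cz (h : ∀ g : G, g * x = x * g → g * y = y * g) : cz x ∣ cz y := card_dvd_of_le fun k hk => mc.2 (h k (mc.1 hk))

theorem cz_conj (g x : G) : cz (g * x * g⁻¹) = cz x := cz_equiv (MulAut.conj g) x

theorem cz_eq_card (h : ∀ g : G, g * x = x * g) : cz x = Nat.card G := by
  have : centralizer ({x} : Set G) = ⊤ := eq_top_iff.2 fun g _ => mc.2 (h g)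
  rw [cz, this, card_top]

/-- Cauchy in the centralizer -/
theorem exists_ord_of_dvd_cz {p : ℕ} (hp : p.Prime) (h : p ∣ cz x) : ∃ y : G, orderOf y = p ∧ y * x = x * y := by
  haveI := Fact.mk hp
  obtain ⟨y, hy⟩ := exists_prime_orderOf_dvd_card' (G := centralizer ({x} : Set G)) p h
  exact ⟨y, by rw [Subgroup.orderOf_coe, hy], mc.1 y.2⟩

/-- if `cz x = orderOf x` the centralizer is `⟨x⟩` -/
theorem mem_zpowers_of_cz (h : cz x = orderOf x) (hy : y * x = x * y) : y ∈ zpowers x := by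
  have le : zpowers x ≤ centralizer ({x} : Set G) := zpowers_le.2 (mc.2 rfl)
  have := eq_of_le_of_card_ge le (by rw [Nat.card_zpowers, ← h]; exact le_rfl)
  rw [this]; exact mc.2 hy

/-- `CL.PCyc.card_centralizer_mk_le` and `QuotientGroup.quotientKerEquivOfSurjective` -/
theorem cz_map_le {H : Type*} [Group H] (π : G →* H) (hπ : Function.Surjective π) (x : G) : cz (π x) ≤ cz x := by
  have := cz_equiv (QuotientGroup.quotientKerEquivOfSurjective π hπ) (x : G ⧸ π.ker)
  have e : QuotientGroup.quotientKerEquivOfSurjective π hπ (x : G ⧸ π.ker) = π x := rfl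
  rw [e] at this
  rw [this]
  exact CL.PCyc.card_centralizer_mk_le π.ker x

/-- the class equation for one class -/
theorem card_conj_mul_cz (x : G) : Nat.card {y : G // ∃ g : G, g * x * g⁻¹ = y} * cz x = Nat.card G := by
  have h1 := MulAction.index_stabilizer (ConjAct G) x
  have h2 := (MulAction.stabilizer (ConjAct G) x).index_mul_card
  have h3 : {y : G | ∃ g : G, g * x * g⁻¹ = y} = MulAction.orbit (ConjAct G) x := by
    ext y
    constructor
    · rintro ⟨g, rfl⟩; exact ⟨ConjAct.toConjAct g, by simp [ConjAct.smul_def]⟩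
    · rintro ⟨g, rfl⟩; exact ⟨ConjAct.ofConjAct g, by simp [ConjAct.smul_def]⟩
  have h4 : Nat.card {y : G // ∃ g : G, g * x * g⁻¹ = y} = (MulAction.orbit (ConjAct G) x).ncard := by
    rw [← h3]; rfl
  rw [h4, ← h1, cz, nat_card_centralizer_nat_card_stabilizer, h2]
  exact Nat.card_congr ConjAct.ofConjAct.toEquiv

/-- `p`-part and `p'`-part -/
theorem exists_dec {p : ℕ} (hp : p.Prime) (x : G) :
    ∃ u w : G, x = u * w ∧ u * w = w * u ∧ u ∈ zpowers x ∧ w ∈ zpowers x ∧ (∃ k : ℕ, orderOf u = p ^ k) ∧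
      ¬ p ∣ orderOf w := by
  obtain ⟨k, m, hm, e⟩ := Nat.exists_eq_pow_mul_and_not_dvd (orderOf_pos x).ne' p hp.ne_one
  have co : (p ^ k).Coprime m := Nat.Coprime.pow_left _ ((Nat.Prime.coprime_iff_not_dvd hp).2 hm)
  obtain ⟨i, h1, h2⟩ := Nat.chineseRemainder co 1 0
  have c : Commute (x ^ i) ((x ^ i)⁻¹ * x) :=
    (Commute.refl _).inv_right.mul_right ((Commute.refl x).pow_left i)
  refine ⟨x ^ i, (x ^ i)⁻¹ * x, by group, c.eq, pow_mem (mem_zpowers x) _,
    mul_mem (inv_mem (pow_mem (mem_zpowers x) _)) (mem_zpowers x), ?_, ?_⟩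
  · have : (x ^ i) ^ p ^ k = 1 := by
      rw [← pow_mul]
      apply orderOf_dvd_iff_pow_eq_one.1
      rw [e, mul_comm i]
      exact Nat.mul_dvd_mul_left _ ((Nat.modEq_zero_iff_dvd).1 h2)
    obtain ⟨j, -, hj⟩ := (Nat.dvd_prime_pow hp).1 (orderOf_dvd_of_pow_eq_one this)
    exact ⟨j, hj⟩
  · intro hd
    refine hm (hd.trans (orderOf_dvd_of_pow_eq_one ?_))
    have c2 : Commute (x ^ i)⁻¹ x := ((Commute.refl x).pow_left i).inv_left
    rw [c2.mul_pow, _root_.inv_pow, ← pow_mul, inv_mul_eq_one, pow_eq_pow_iff_modEq, e]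
    simpa using h1.mul_right' m

/-- `x` and `x ^ m` generate the same cyclic group, so they have the same centralizer -/
theorem AH.rat (h : AH G) : Rat G := by
  intro x m hm
  refine h x (x ^ m) (Nat.dvd_antisymm (cz_dvd_cz fun g hg => ?_) (cz_dvd_cz fun g hg => ?_))
  · exact (Commute.pow_right hg m).eq
  · obtain ⟨n, hn⟩ := exists_pow_eq_self_of_coprime hm
    have := (Commute.pow_right hg n).eq
    rwa [hn] at this

theorem Rat.real (h : Rat G) (x : G) : ∃ g : G, g * x * g⁻¹ = x⁻¹ := by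
  obtain ⟨m, hm, e⟩ := Bx.inv_pow x
  rw [← e]; exact h x m hm

/-- Lift `x̄` to `x`; choose `m' ≡ m` modulo `orderOf x̄` coprime to `orderOf x` (`ZMod.unitsMap_surjective`, or add to `m` the
multiple `orderOf x̄ * (product of the primes dividing orderOf x but not m)`). -/
theorem Rat.map (h : Rat G) {H : Type*} [Group H] (π : G →* H) (hπ : Function.Surjective π) : Rat H := by
  intro xb m hm
  obtain ⟨x, rfl⟩ := hπ xb
  have d : orderOf (π x) ∣ orderOf x := orderOf_map_dvd π x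
  haveI : NeZero (orderOf x) := ⟨(orderOf_pos x).ne'⟩
  obtain ⟨v, hv⟩ := ZMod.unitsMap_surjective d (ZMod.unitOfCoprime m hm)
  obtain ⟨g, hg⟩ := h x (v : ZMod (orderOf x)).val (ZMod.val_coe_unit_coprime v)
  refine ⟨π g, ?_⟩
  rw [← map_inv, ← map_mul, ← map_mul, hg, map_pow, pow_eq_pow_iff_modEq, ← ZMod.natCast_eq_natCast_iff]
  have := congrArg Units.val hv
  rw [ZMod.unitsMap_val, ZMod.coe_unitOfCoprime] at this
  rw [← this, ZMod.natCast_val]

/-- Chinese remainder theorem: `n ≡ 1 mod orderOf x`, `n ≡ m mod orderOf y`, `g (x y) g⁻¹ = (x y) ^ n = x y ^ m`; then take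
powers that isolate the two parts. -/
theorem Rat.pair (h : Rat G) (hc : x * y = y * x) (ho : (orderOf x).Coprime (orderOf y)) {m : ℕ}
    (hm : m.Coprime (orderOf y)) : ∃ g : G, g * x = x * g ∧ g * y * g⁻¹ = y ^ m := by
  have c : Commute x y := hc
  obtain ⟨n, h1, h2⟩ := Nat.chineseRemainder ho 1 m
  obtain ⟨i, i1, i2⟩ := Nat.chineseRemainder ho 1 0
  have co : n.Coprime (orderOf (x * y)) := by
    rw [c.orderOf_mul_eq_mul_orderOf_of_coprime ho]
    refine Nat.Coprime.mul_right ?_ ?_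
    · rw [Nat.Coprime, h1.gcd_eq]; simp
    · rw [Nat.Coprime, h2.gcd_eq]; exact hm
  obtain ⟨g, hg⟩ := h (x * y) n co
  have xn : x ^ n = x := by simpa using pow_eq_pow_iff_modEq.2 h1
  have yn : y ^ n = y ^ m := pow_eq_pow_iff_modEq.2 h2
  have xi : x ^ i = x := by simpa using pow_eq_pow_iff_modEq.2 i1
  have yi : y ^ i = 1 := by simpa using pow_eq_pow_iff_modEq.2 i2
  rw [c.mul_pow, xn, yn] at hg
  have e : g * x * g⁻¹ = x := by
    have e1 : (g * (x * y) * g⁻¹) ^ i = g * x * g⁻¹ := by rw [conj_pow, c.mul_pow, xi, yi, mul_one]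
    rw [← e1, hg, (c.pow_right m).mul_pow, xi, ← pow_mul, mul_comm m, pow_mul, yi, one_pow, mul_one]
  refine ⟨g, by rw [← mul_inv_eq_iff_eq_mul, e], ?_⟩
  have : g * y * g⁻¹ = (g * x * g⁻¹)⁻¹ * (g * (x * y) * g⁻¹) := by group
  rw [this, e, hg]; group

theorem Rat.pair_inv (h : Rat G) (hc : x * y = y * x) (ho : (orderOf x).Coprime (orderOf y)) :
    ∃ g : G, g * x = x * g ∧ g * y * g⁻¹ = y⁻¹ := by
  obtain ⟨m, hm, e⟩ := Bx.inv_pow y
  rw [← e]; exact h.pair hc ho hm

/-- `{g | g x g⁻¹ = x ∨ g x g⁻¹ = x⁻¹}` is a subgroup in which `C(x)` has index two -/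
theorem Rat.two_mul_cz_dvd (h : Rat G) (hx : x * x ≠ 1) : 2 * cz x ∣ Nat.card G := by
  classical
  rw [← card_conj_mul_cz x]
  refine Nat.mul_dvd_mul_right ?_ _
  obtain ⟨g0, h0⟩ := h.real x
  let T := {y : G // ∃ g : G, g * x * g⁻¹ = y}
  let f : Function.End T := fun y => ⟨y.1⁻¹, by
    obtain ⟨g, hg⟩ := y.2
    refine ⟨g * g0, ?_⟩
    rw [← hg]
    have : g * g0 * x * (g * g0)⁻¹ = g * (g0 * x * g0⁻¹) * g⁻¹ := by group
    rw [this, h0]; group⟩
  haveI := Fintype.ofFinite T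
  have hf : f ^ 2 ^ 1 = 1 := by
    funext y
    exact Subtype.ext (inv_inv y.1)
  have m := Equiv.Perm.card_fixedPoints_modEq hf
  have e : IsEmpty f.fixedPoints := ⟨fun y => by
    obtain ⟨g, hg⟩ := y.1.2
    have : y.1.1⁻¹ = y.1.1 := congrArg Subtype.val y.2
    rw [inv_eq_iff_mul_eq_one, ← hg] at this
    apply hx
    have e2 : x * x = g⁻¹ * (g * x * g⁻¹ * (g * x * g⁻¹)) * g := by group
    rw [e2, this]; group⟩
  rw [Fintype.card_eq_zero (α := f.fixedPoints)] at m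
  rw [Nat.card_eq_fintype_card]
  exact (Nat.modEq_zero_iff_dvd).1 m

/-- a power `y'` of `y` has order four; `4 ∣ cz y'` and `two_mul_cz_dvd` -/
theorem Rat.eight_dvd (h : Rat G) (hy : 4 ∣ orderOf y) : 8 ∣ Nat.card G := by
  have o := orderOf_pow_orderOf_div (orderOf_pos y).ne' hy
  set w := y ^ (orderOf y / 4)
  have d : 4 ∣ cz w := o ▸ orderOf_dvd_cz rfl
  have n : w * w ≠ 1 := fun e => by
    have := orderOf_dvd_of_pow_eq_one ((pow_two w).trans e)
    rw [o] at this; omega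
  exact (Nat.mul_dvd_mul_left 2 d).trans (h.two_mul_cz_dvd n)

/-- a minimal normal subgroup of a solvable group (`CL.Perm.exists_minimal_normal_le`, its commutator subgroup is normal and
proper, `CL.Perm.elementary_of_minimal_normal_of_comm`) -/
theorem exists_min [Nontrivial G] (hs : Group.IsSolvable G) :
    ∃ (N : Subgroup G) (p : ℕ), N.Normal ∧ N ≠ ⊥ ∧ p.Prime ∧ (∀ L : Subgroup G, L.Normal → L ≤ N → L = ⊥ ∨ L = N) ∧
      (∀ a ∈ N, ∀ b ∈ N, a * b = b * a) ∧ ∀ a ∈ N, a ^ p = 1 := by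
  obtain ⟨N, hN, ne, -, mn⟩ := CL.Perm.exists_minimal_normal_le (⊤ : Subgroup G) top_ne_bot
  have lt := Group.IsSolvable.commutator_lt_of_ne_bot ne
  have b : ⁅N, N⁆ = ⊥ := (mn _ inferInstance lt.le).resolve_right lt.ne
  have cm : ∀ a ∈ N, ∀ b ∈ N, a * b = b * a := fun a ha c hc => by
    have := commutator_mem_commutator ha hc
    rw [b, mem_bot, commutatorElement_eq_one_iff_mul_comm] at this
    exact this
  obtain ⟨p, hp, e⟩ := CL.Perm.elementary_of_minimal_normal_of_comm N ne mn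
    ⟨⟨fun a c => Subtype.ext (cm a a.2 c c.2)⟩⟩
  exact ⟨N, p, hN, ne, hp, mn, cm, e⟩

/-- a Sylow 2-subgroup `S` of `C(a)` containing `z`: its centre lies in `C(a) ⊓ C(z) = ⟨a, z⟩`, so if `S ≠ 1` then
`Z(S) = ⟨z⟩`, and `S ≤ C(a) ⊓ C(z)` has order two. -/
theorem Zz.not_four {a z : G} (h : Zz a z) : ¬ 4 ∣ cz a := by
  intro h4
  let C := centralizer ({a} : Set G)
  let z' : C := ⟨z, mc.2 h.cm⟩
  have pz : IsPGroup 2 (zpowers z') := by
    refine IsPGroup.of_card_dvd_pow (n := 1) ?_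
    rw [Nat.card_zpowers]
    exact orderOf_dvd_of_pow_eq_one (Subtype.ext (by simpa [pow_two] using h.z2))
  obtain ⟨S, hS⟩ := pz.exists_le_sylow
  have d : 2 ^ 2 ∣ Nat.card S := S.pow_dvd_card_of_pow_dvd_card h4
  have zS : z' ∈ (S : Subgroup C) := hS (mem_zpowers z')
  have key : ∀ s : S, s.1.1 * z = z * s.1.1 → s.1.1 = 1 ∨ s.1.1 = z := fun s hs => by
    obtain ⟨k, hk⟩ := S.isPGroup' s
    exact two_el h (mc.1 s.1.2) hs (k := k) (by simpa using congrArg (fun t : S => t.1.1) hk)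
  have pos : 0 < Nat.card S := Nat.card_pos
  haveI : Nontrivial S := Finite.one_lt_card_iff_nontrivial.1 (by omega)
  haveI := S.isPGroup'.center_nontrivial
  obtain ⟨s, hs⟩ := exists_ne (1 : center S)
  have sc : ∀ t : S, t.1.1 * s.1.1.1 = s.1.1.1 * t.1.1 := fun t =>
    congrArg (fun t : S => t.1.1) (mem_center_iff.1 s.2 t)
  have sz : s.1.1.1 = z := (key s.1 (sc ⟨z', zS⟩).symm).resolve_left fun e =>
    hs (Subtype.ext (Subtype.ext (Subtype.ext e)))
  have le : Nat.card S ≤ ({1, z} : Set G).ncard := by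
    rw [← Nat.card_coe_set_eq]
    refine Nat.card_le_card_of_injective (fun t => ⟨t.1.1, key t (sz ▸ sc t)⟩) fun t u e => ?_
    exact Subtype.ext (Subtype.ext (congrArg (fun q : ({1, z} : Set G) => q.1) e))
  have := Set.ncard_insert_le (1 : G) {z}
  rw [Set.ncard_singleton] at this
  have := Nat.le_of_dvd pos d
  omega

/-- `t ^ 6 = 1`, `3 ∣ orderOf t`, `cz t ≤ 6`: then `cz t` is 3 or 6.  Take `a = t ^ 4` (order three).  If `cz t = 3`, then `t` has order 3,
`a = t`, `z = 1`.  If `cz t = 6`, take an involution `z ∈ C(t)`; `a z` has order six, so `C(t) = ⟨a z⟩ = ⟨a, z⟩` contains `t`, and an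
element commuting with `a` and `z` commutes with `t`. -/
theorem exists_zz {t : G} (h6 : t ^ 6 = 1) (h3 : 3 ∣ orderOf t) (hc : cz t ≤ 6) : ∃ a z : G, Zz a z := by
  have o4 : orderOf (t ^ 4) = 3 := by
    refine orderOf_eq_prime ?_ fun e => ?_
    · rw [← pow_mul, show 4 * 3 = 6 * 2 from rfl, pow_mul, h6, one_pow]
    · have := h3.trans (orderOf_dvd_of_pow_eq_one e); omega
  have d : orderOf t ∣ cz t := orderOf_dvd_cz rfl
  have d3 := h3.trans d
  have pos := cz_pos t
  rcases (show cz t = 3 ∨ cz t = 6 by omega) with e | e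
  · have o : orderOf t = 3 := Nat.dvd_antisymm (e ▸ d) h3
    refine ⟨t, 1, o, by simp, by simp, fun g hg _ => ?_⟩
    obtain ⟨i, hi⟩ := nat_pow (mem_zpowers_of_cz (e.trans o.symm) hg)
    exact ⟨i, 0, by simpa using hi⟩
  · obtain ⟨z, oz, cz'⟩ := exists_ord_of_dvd_cz (x := t) Nat.prime_two (by omega)
    have c : Commute (t ^ 4) z := (Commute.pow_right cz' 4).symm
    have ow : orderOf (t ^ 4 * z) = 6 := by
      rw [c.orderOf_mul_eq_mul_orderOf_of_coprime (by rw [o4, oz]; norm_num), o4, oz]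
    have le : zpowers (t ^ 4 * z) ≤ centralizer ({t} : Set G) :=
      zpowers_le.2 (mul_mem (pow_mem (mc.2 rfl) 4) (mc.2 cz'))
    have eq := eq_of_le_of_card_ge le (by rw [Nat.card_zpowers, ow, ← e]; exact le_rfl)
    obtain ⟨k, hk⟩ := nat_pow (eq.ge (mc.2 rfl) : t ∈ zpowers (t ^ 4 * z))
    refine ⟨t ^ 4, z, o4, by rw [← pow_two, ← oz, pow_orderOf_eq_one], c.symm.eq, fun g ga gz => ?_⟩
    have gw : Commute g ((t ^ 4 * z) ^ k) := (Commute.mul_right ga gz).pow_right k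
    rw [← hk] at gw
    obtain ⟨i, hi⟩ := nat_pow (eq.ge (mc.2 gw.eq) : g ∈ zpowers (t ^ 4 * z))
    exact ⟨i, i, by rw [hi, c.mul_pow]⟩

end CL.AH
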