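import Mathlib
import Cfsg.Agent.SOLV.Fitting
import Cfsg.Agent.SOLV.MaxClass
import Cfsg.Agent.PERM.MinNormal

/-! Solvable groups with distinct class sizes (S4162): definitions.

Plan.  `G` solvable, elements with centralizers of the same order are conjugate (`AH`).  Then `G` is rational (`Rat`).
A prime `r ≥ 5` dividing `|G|` gives a module `Md` (top `r`-chief factor) with the eigenvector property; it is symplectic.
This excludes `r ≥ 11` and several small centralizer orders; then `∑ 1/|C(x)| = 1` over distinct 7-smooth numbers is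
impossible unless some centralizer has order 2, which gives `S₃`. -/

set_option autoImplicit false

namespace CL.AH

open Subgroup

section grp

variable {G : Type*} [Group G]

/-- the order of the centralizer -/
noncomputable def cz (x : G) : ℕ := Nat.card (centralizer ({x} : Set G))

/-- rational group -/
def Rat (G : Type*) [Group G] : Prop :=
  ∀ (x : G) (m : ℕ), m.Coprime (orderOf x) → ∃ g : G, g * x * g⁻¹ = x ^ m

/-- elements with centralizers of the same order are conjugate -/
def AH (G : Type*) [Group G] : Prop := ∀ x y : G, cz x = cz y → ∃ g : G, g * x * g⁻¹ = y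

/-- at least three quarters of the elements have order divisible by four -/
def Dens (G : Type*) [Group G] : Prop := 3 * Nat.card G ≤ 4 * Nat.card {g : G // 4 ∣ orderOf g}

/-- `a` has order three and `C(a) ⊓ C(z) = ⟨a, z⟩`, where `z ^ 2 = 1` (`z = 1` is allowed) -/
structure Zz (a z : G) : Prop where
  a3 : orderOf a = 3
  z2 : z * z = 1
  cm : z * a = a * z
  le : ∀ g : G, g * a = a * g → g * z = z * g → ∃ i j : ℕ, g = a ^ i * z ^ j

end grp

/-- 7-smooth -/
def Sm (c : ℕ) : Prop := c ≠ 0 ∧ ∀ p : ℕ, p.Prime → p ∣ c → p ≤ 7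

/-- the sum of the reciprocals -/
noncomputable def Rs (C : Finset ℕ) : ℝ := ∑ c ∈ C, (c : ℝ)⁻¹

section lin

variable {r : ℕ} [Fact r.Prime] {H : Type*} [Group H] {V : Type*} [AddCommGroup V] [Module (ZMod r) V]

/-- faithful irreducible coprime module of a solvable rational group with the strong eigenvector property -/
structure Md (ρ : Representation (ZMod r) H V) : Prop where
  sol : Group.IsSolvable H
  rat : Rat H
  cop : ¬ r ∣ Nat.card H
  inj : Function.Injective ρ
  nt : ∃ v : V, v ≠ 0
  irr : ∀ W : Submodule (ZMod r) V, (∀ h : H, ∀ w ∈ W, ρ h w ∈ W) → W = ⊥ ∨ W = ⊤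
  ep : ∀ (t : H) (v : V), ρ t v = v → ∀ c : ZMod r, c ≠ 0 → ∃ h : H, h * t = t * h ∧ ρ h v = c • v

/-- invariant nondegenerate alternating form -/
structure Fm (ρ : Representation (ZMod r) H V) (B : V →ₗ[ZMod r] V →ₗ[ZMod r] ZMod r) : Prop where
  alt : ∀ v, B v v = 0
  nd : ∀ v, (∀ w, B v w = 0) → v = 0
  inv : ∀ (h : H) (v w : V), B (ρ h v) (ρ h w) = B v w

/-- faithful coprime symplectic module of a solvable group with the eigenvector property -/
structure Sp (ρ : Representation (ZMod r) H V) (B : V →ₗ[ZMod r] V →ₗ[ZMod r] ZMod r) : Prop extends Fm ρ B where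
  sol : Group.IsSolvable H
  cop : ¬ r ∣ Nat.card H
  inj : Function.Injective ρ
  nt : ∃ v : V, v ≠ 0
  ep : ∀ (v : V) (c : ZMod r), c ≠ 0 → ∃ h : H, ρ h v = c • v

/-- no nonzero fixed vector -/
def Fpf (ρ : Representation (ZMod r) H V) (t : H) : Prop := ∀ v : V, ρ t v = v → v = 0

/-- quadratic element of order three -/
def Qd (ρ : Representation (ZMod r) H V) (a : H) : Prop := ρ a * ρ a + ρ a + 1 = 0

/-- acts as `1` or `-1` -/
def Pm (ρ : Representation (ZMod r) H V) (g : H) : Prop := ρ g = 1 ∨ ρ g = -1

end lin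

end CL.AH
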