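import Cfsg.Agent.FGS.AH.Bas

/-! The module of an elementary abelian normal subgroup; the top chief factor. -/

set_option autoImplicit false

namespace CL.AH

open Subgroup Cfsg

universe u

theorem exists_rep_aux {G A : Type u} [Group G] [CommGroup A] {p : ℕ} [Fact p.Prime] (φ : G →* MulAut A)
    (hp : ∀ a : A, a ^ p = 1) :
    ∃ (_ : Module (ZMod p) (Additive A)) (σ : Representation (ZMod p) G (Additive A)),
      ∀ g v, (σ g v).toMul = φ g v.toMul := by
  have m : Module (ZMod p) (Additive A) := AddCommGroup.zmodModule fun x => congrArg Additive.ofMul (hp x.toMul)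
  exact ⟨m, ⟨⟨fun g => (MonoidHom.toAdditive (φ g).toMonoidHom).toZModLinearMap p, by ext v; simp⟩,
    fun a b => by ext v; simp⟩, fun _ _ => rfl⟩

/-- `V = Additive N` with `AddCommGroup.zmodModule`, `σ g` is conjugation (`AddMonoidHom.toZModLinearMap`). -/
theorem exists_rep {G : Type u} [Group G] [Finite G] {p : ℕ} [Fact p.Prime] (N : Subgroup G) [N.Normal]
    (hc : ∀ a ∈ N, ∀ b ∈ N, a * b = b * a) (hp : ∀ a ∈ N, a ^ p = 1) :
    ∃ (V : Type u) (_ : AddCommGroup V) (_ : Module (ZMod p) V) (_ : Finite V) (σ : Representation (ZMod p) G V)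
      (e : V → G), Function.Injective e ∧ (∀ v, e v ∈ N) ∧ (∀ a ∈ N, ∃ v, e v = a) ∧ e 0 = 1 ∧
        (∀ v w, e (v + w) = e v * e w) ∧ (∀ (n : ℕ) v, e ((n : ZMod p) • v) = e v ^ n) ∧
        ∀ g v, e (σ g v) = g * e v * g⁻¹ := by
  let c : CommGroup N := { (inferInstance : Group N) with mul_comm := fun a b => Subtype.ext (hc a a.2 b b.2) }
  obtain ⟨m, σ, h⟩ := @exists_rep_aux G N _ c p _ MulAut.conjNormal fun a => Subtype.ext (hp _ a.2)
  refine ⟨Additive N, @Additive.addCommGroup N c, m, inferInstance, σ, fun v => v.toMul.1,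
    fun v w e => congrArg Additive.ofMul (Subtype.ext e), fun v => v.toMul.2, fun a ha => ⟨.ofMul ⟨a, ha⟩, rfl⟩, rfl,
    fun _ _ => rfl, fun n v => ?_, fun g v => congrArg Subtype.val (h g v)⟩
  rw [Nat.cast_smul_eq_nsmul]; rfl

/-- Induction on `|G|`.  Let `N` be minimal normal (`exists_min`).  If `r ∣ |G / N|`, use induction and `cz_map_le`.
Otherwise `N` is an elementary abelian `r`-group containing every `r`-element; take `σ` from `exists_rep`, `H = G ⧸ σ.ker`
(`N ≤ σ.ker`, so `|H|` divides `|G / N|`), `ρ = QuotientGroup.kerLift σ`.  `irr`: an invariant submodule gives a normal subgroup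
of `G` inside `N`.  `ep`: lift `t` to `g = u w` (`exists_dec`), `u ∈ N`, so `w` also maps to `t`; `w` commutes with `e v`;
`Rat.pair` with `m = c.val` (if `v = 0` take `h = 1`).  The fixed vectors of `x` are the elements of `N` commuting with `x`. -/
theorem exists_md {r : ℕ} [Fact r.Prime] (G : Type u) [Group G] [Finite G] (hs : Group.IsSolvable G) (hr : Rat G)
    (hd : r ∣ Nat.card G) :
    ∃ (H : Type u) (_ : Group H) (_ : Finite H) (V : Type u) (_ : AddCommGroup V) (_ : Module (ZMod r) V) (_ : Finite V)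
      (ρ : Representation (ZMod r) H V) (π : G →* H), Md ρ ∧ Function.Surjective π ∧
        ∀ x : G, Nat.card {v : V // ρ (π x) v = v} ≤ cz x := by
  induction hn : Nat.card G using Nat.strong_induction_on generalizing G with
  | _ n ih =>
  have rp : r.Prime := Fact.out
  have : Nontrivial G := Finite.one_lt_card_iff_nontrivial.1 (rp.one_lt.trans_le (Nat.le_of_dvd Nat.card_pos hd))
  obtain ⟨N, p, hN, N0, pp, hm, hc, hp⟩ := exists_min hs
  by_cases q : r ∣ Nat.card (G ⧸ N)
  · obtain ⟨H, _, _, V, _, _, _, ρ, π, m, s, k⟩ := ih _ (by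
      rw [← hn, card_eq_card_quotient_mul_card_subgroup N]
      exact lt_mul_of_one_lt_right Nat.card_pos ((one_lt_card_iff_ne_bot _).2 N0)) (G ⧸ N) inferInstance
      (hr.map _ (QuotientGroup.mk'_surjective N)) q rfl
    exact ⟨H, _, ‹_›, V, _, _, ‹_›, ρ, π.comp (QuotientGroup.mk' N), m, s.comp (QuotientGroup.mk'_surjective N),
      fun x => (k _).trans (cz_map_le _ (QuotientGroup.mk'_surjective N) x)⟩
  obtain rfl : r = p := by
    rw [card_eq_card_quotient_mul_card_subgroup N] at hd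
    obtain ⟨a, ha⟩ := exists_prime_orderOf_dvd_card' r ((rp.dvd_mul.1 hd).resolve_left q)
    exact (Nat.prime_dvd_prime_iff_eq rp pp).1 (ha ▸ orderOf_dvd_of_pow_eq_one (Subtype.ext (hp _ a.2)))
  obtain ⟨V, _, _, _, σ, e, ei, eN, es, e0, ea, en, eσ⟩ := exists_rep (p := r) N hc hp
  have le : N ≤ σ.ker := fun a ha => by
    ext v
    exact ei (by rw [eσ, hc a ha _ (eN v), mul_inv_cancel_right]; rfl)
  let ρ : Representation (ZMod r) (G ⧸ σ.ker) V := QuotientGroup.lift σ.ker σ le_rfl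
  have hρ : ∀ g : G, ρ (g : G ⧸ σ.ker) = σ g := fun _ => rfl
  refine ⟨G ⧸ σ.ker, inferInstance, inferInstance, V, inferInstance, inferInstance, inferInstance, ρ,
    QuotientGroup.mk' _, ⟨inferInstance, hr.map _ (QuotientGroup.mk'_surjective _),
    fun d => q (d.trans (index_dvd_of_le le)), (injective_iff_map_eq_one _).2 fun g k => ?_, ?_, fun W hW => ?_,
    fun t v k c c0 => ?_⟩, QuotientGroup.mk'_surjective _, fun x => ?_⟩
  · obtain ⟨g, rfl⟩ := QuotientGroup.mk_surjective g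
    exact (QuotientGroup.eq_one_iff g).2 k
  · obtain ⟨⟨a, ha⟩, a1⟩ := ne_bot_iff_exists_ne_one.1 N0
    obtain ⟨v, rfl⟩ := es a ha
    exact ⟨v, fun k => a1 (Subtype.ext ((congrArg e k).trans e0))⟩
  · let L : Subgroup G :=
      { carrier := e '' W
        mul_mem' := by rintro _ _ ⟨a, ha, rfl⟩ ⟨b, hb, rfl⟩; exact ⟨a + b, W.add_mem ha hb, ea a b⟩
        one_mem' := ⟨0, W.zero_mem, e0⟩
        inv_mem' := by
          rintro _ ⟨a, ha, rfl⟩
          exact ⟨-a, W.neg_mem ha, eq_inv_of_mul_eq_one_left (by rw [← ea, neg_add_cancel, e0])⟩ }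
    rcases hm L ⟨by rintro _ ⟨a, ha, rfl⟩ g; exact ⟨_, hW (g : G ⧸ σ.ker) a ha, eσ g a⟩⟩
      (by rintro _ ⟨a, -, rfl⟩; exact eN a) with k | k
    · exact .inl (eq_bot_iff.2 fun w hw => ei ((mem_bot.1 (k.le ⟨w, hw, rfl⟩)).trans e0.symm))
    · refine .inr (eq_top_iff.2 fun w _ => ?_)
      obtain ⟨a, ha, l⟩ := k.ge (eN w)
      exact ei l ▸ ha
  · by_cases v0 : v = 0
    · exact ⟨1, by simp, by simp [v0]⟩
    obtain ⟨g, rfl⟩ := QuotientGroup.mk_surjective t
    obtain ⟨u, w, rfl, -, -, -, ⟨j, hj⟩, hw⟩ := exists_dec rp g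
    have uN : u ∈ N := by
      rw [← QuotientGroup.eq_one_iff, ← orderOf_eq_one_iff]
      exact Nat.eq_one_of_dvd_coprimes (((Nat.Prime.coprime_iff_not_dvd rp).2 q).pow_left j)
        (hj ▸ orderOf_map_dvd (QuotientGroup.mk' N) u) (orderOf_dvd_natCard _)
    have t : ((u * w : G) : G ⧸ σ.ker) = w := by
      rw [QuotientGroup.mk_mul, (QuotientGroup.eq_one_iff u).2 (le uN), one_mul]
    rw [t] at k ⊢
    have o : orderOf (e v) = r := orderOf_eq_prime (hp _ (eN v)) fun l => v0 (ei (l.trans e0.symm))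
    obtain ⟨a, a1, a2⟩ := hr.pair (x := w) (y := e v) (mul_inv_eq_iff_eq_mul.1 (by rw [← eσ, ← hρ, k]))
      (o ▸ ((Nat.Prime.coprime_iff_not_dvd rp).2 hw).symm) (m := c.val) (by
        rw [o]
        exact ((Nat.Prime.coprime_iff_not_dvd rp).2 (Nat.not_dvd_of_pos_of_lt (ZMod.val_pos.2 c0) c.val_lt)).symm)
    refine ⟨a, by rw [← QuotientGroup.mk_mul, a1, QuotientGroup.mk_mul], ei ?_⟩
    rw [hρ, eσ, a2, ← en, ZMod.natCast_zmod_val]
  · exact Nat.card_le_card_of_injective (β := centralizer ({x} : Set G))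
      (fun v => ⟨e v.1, mem_centralizer_singleton_iff.2 (mul_inv_eq_iff_eq_mul.1 (by
        rw [← eσ]; exact congrArg e v.2)).symm⟩) fun v w k => Subtype.ext (ei (congrArg Subtype.val k))

end CL.AH
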